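import Mathlib
import Groth.Prelude.Def_Cyc
import Groth.Agent.PtTop.DimFun

/-! Dimensions of closures and of local rings of closures computed by a dimension function. -/

universe u v

open CategoryTheory AlgebraicGeometry TopologicalSpace Order

namespace Groth.Agent.DimFunDim

variable {X : Scheme.{u}} {δ : X → ℤ}

theorem lt_of (hδ : Cyc.IsDimFun X δ) {x y : X} (h : x ⤳ y) (hne : x ≠ y) : δ y < δ x :=
  (hδ x y h hne).1

theorem le_of (hδ : Cyc.IsDimFun X δ) {x y : X} (h : x ⤳ y) : δ y ≤ δ x := by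
  rcases eq_or_ne x y with rfl | hne
  exacts [le_rfl, (lt_of hδ h hne).le]

/-- An immediate specialisation towards `z`. -/
theorem exists_immediate (hδ : Cyc.IsDimFun X δ) {y z : X} (h : y ⤳ z) (hne : y ≠ z) :
    ∃ y' : X, y ⤳ y' ∧ y' ⤳ z ∧ y ≠ y' ∧ δ y = δ y' + 1 := by
  obtain ⟨m, ⟨y', h1, h2, h3, rfl⟩, hmax⟩ := Int.exists_greatest_of_bdd
    (P := fun m => ∃ w : X, y ⤳ w ∧ w ⤳ z ∧ y ≠ w ∧ δ w = m)
    ⟨δ y, by rintro m ⟨w, a, -, c, rfl⟩; exact (lt_of hδ a c).le⟩
    ⟨δ z, z, h, specializes_rfl, hne, rfl⟩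
  refine ⟨y', h1, h2, h3, (hδ y y' h1 h3).2 fun w a b => ?_⟩
  by_contra hcon
  push Not at hcon
  exact absurd (hmax (δ w) ⟨w, a, b.trans h2, hcon.1.symm, rfl⟩) (not_le.2 (lt_of hδ b hcon.2))

theorem krullDim_eq {α : Type v} [PartialOrder α] (hδ : Cyc.IsDimFun X δ) (f : α → X)
    (hf : ∀ a b, a ≤ b ↔ f b ⤳ f a) {ξ z : X} (hξz : ξ ⤳ z) (hξ : ∀ a, ξ ⤳ f a) (hlow : ∀ a, δ z ≤ δ (f a))
    (hint : ∀ y, ξ ⤳ y → y ⤳ z → ∃ a, f a = y) :
    Order.krullDim α = ((δ ξ - δ z).toNat : WithBot ℕ∞) := by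
  have hmono : ∀ a b, a < b → δ (f a) < δ (f b) := fun a b hab =>
    lt_of hδ ((hf a b).1 hab.le) fun e => hab.not_ge ((hf b a).2 (e ▸ specializes_rfl))
  apply le_antisymm
  · refine iSup_le fun s => ?_
    have : ∀ i : Fin (s.length + 1), δ z + (i : ℕ) ≤ δ (f (s i)) := by
      intro i
      induction i using Fin.induction with
      | zero => simpa using hlow _
      | succ i ih =>
        have := hmono _ _ (s.step i)
        simp only [Fin.val_succ, Fin.val_castSucc] at *
        push_cast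
        omega
    have h1 := this (Fin.last _)
    have h2 := le_of hδ (hξ (s (Fin.last _)))
    have : s.length ≤ (δ ξ - δ z).toNat := by simp at h1; omega
    exact_mod_cast this
  · have : ∀ (n : ℕ) (y : X), ξ ⤳ y → y ⤳ z → δ y = δ z + n → ∃ s : LTSeries α, s.length = n ∧ f s.last = y := by
      intro n
      induction n with
      | zero =>
        intro y a b _
        obtain ⟨c, hc⟩ := hint y a b
        exact ⟨RelSeries.singleton _ c, rfl, hc⟩
      | succ n ih =>
        intro y a b e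
        have hne : y ≠ z := by
          rintro rfl
          omega
        obtain ⟨y', h1, h2, h3, h4⟩ := exists_immediate hδ b hne
        obtain ⟨s, hs, hs'⟩ := ih y' (a.trans h1) h2 (by omega)
        obtain ⟨c, hc⟩ := hint y a b
        have hlt : s.last < c := lt_of_le_not_ge ((hf _ _).2 (hs'.symm ▸ hc.symm ▸ h1)) fun hge => by
          have := le_of hδ ((hf _ _).1 hge)
          rw [hs', hc] at this
          omega
        exact ⟨s.snoc c hlt, by simp [hs], by simpa using hc⟩
    obtain ⟨s, hs, -⟩ := this (δ ξ - δ z).toNat ξ specializes_rfl hξz (by have := le_of hδ hξz; omega)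
    exact le_trans (by rw [hs]) s.length_le_krullDim

theorem exists_closed_specialization [JacobsonSpace X] (y : X) : ∃ z : X, y ⤳ z ∧ IsClosed ({z} : Set X) := by
  obtain ⟨z, hz, hz'⟩ := (nonempty_inter_closedPoints (X := X) (Z := closure {y}) ⟨y, subset_closure rfl⟩
    isClosed_closure.isLocallyClosed)
  exact ⟨z, specializes_iff_mem_closure.2 hz, hz'⟩

theorem topologicalKrullDim_closure [JacobsonSpace X] (hδ : Cyc.IsDimFun X δ)
    (h0 : ∀ x : X, IsClosed ({x} : Set X) → δ x = 0) (ξ : X) :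
    topologicalKrullDim ↥(closure ({ξ} : Set X)) = ((δ ξ).toNat : WithBot ℕ∞) ∧ 0 ≤ δ ξ := by
  have hnn : ∀ y : X, 0 ≤ δ y := fun y => by
    obtain ⟨z, hz, hz'⟩ := exists_closed_specialization y
    exact (h0 z hz').ge.trans (le_of hδ hz)
  refine ⟨?_, hnn ξ⟩
  obtain ⟨z, hz, hz'⟩ := exists_closed_specialization ξ
  haveI : QuasiSober ↥(closure ({ξ} : Set X)) := isClosed_closure.isClosedEmbedding_subtypeVal.quasiSober
  have h := krullDim_eq (α := IrreducibleCloseds ↥(closure ({ξ} : Set X))) hδ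
    (fun T => (PtDimFun.pt T).1)
    (fun a b => PtDimFun.le_iff.trans (subtype_specializes_iff _ _)) hz
    (fun a => specializes_iff_mem_closure.2 (PtDimFun.pt a).2)
    (fun a => (h0 z hz').trans_le (hnn _))
    (fun y a _ => by
      let T : IrreducibleCloseds ↥(closure ({ξ} : Set X)) :=
        ⟨closure {⟨y, specializes_iff_mem_closure.1 a⟩}, isIrreducible_singleton.closure, isClosed_closure⟩
      exact ⟨T, congrArg Subtype.val ((PtDimFun.pt_spec T).eq isGenericPoint_closure)⟩)
  rw [h0 z hz', sub_zero] at h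
  exact h

theorem ringKrullDim_locQuot (hδ : Cyc.IsDimFun X δ) {ξ z : X} (h : ξ ⤳ z) :
    ringKrullDim (Cyc.LocQuot z ξ h) = ((δ ξ - δ z).toNat : WithBot ℕ∞) := by
  let g : Spec (X.presheaf.stalk z) := Spec.map (X.presheaf.stalkSpecializes h) (IsLocalRing.closedPoint (X.presheaf.stalk ξ))
  have hg : g.asIdeal = RingHom.ker (Cyc.specMap z ξ h) := by
    show Ideal.comap _ (IsLocalRing.maximalIdeal _) = _
    rw [← IsLocalRing.ker_residue, RingHom.comap_ker]
    rfl
  have hgξ : X.fromSpecStalk z g = ξ := by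
    show X.fromSpecStalk z (Spec.map (X.presheaf.stalkSpecializes h) (IsLocalRing.closedPoint _)) = ξ
    rw [← Scheme.Hom.comp_apply, Scheme.SpecMap_stalkSpecializes_fromSpecStalk, Scheme.fromSpecStalk_closedPoint]
  have hemb := (X.fromSpecStalk z).isEmbedding
  let mk := Ideal.Quotient.mk (RingHom.ker (Cyc.specMap z ξ h))
  rw [ringKrullDim, ← Order.krullDim_orderDual]
  refine krullDim_eq hδ (fun p => X.fromSpecStalk z (PrimeSpectrum.comap mk (OrderDual.ofDual p))) (fun a b => ?_) h
    (fun a => ?_) (fun a => ?_) (fun y h1 h2 => ?_)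
  · refine Iff.trans ?_ hemb.isInducing.specializes_iff.symm
    refine Iff.trans ?_ (PrimeSpectrum.le_iff_specializes (PrimeSpectrum.comap mk (OrderDual.ofDual b))
      (PrimeSpectrum.comap mk (OrderDual.ofDual a)))
    exact (show OrderDual.ofDual b ≤ OrderDual.ofDual a ↔ _ from
      (Ideal.comap_le_comap_iff_of_surjective mk Ideal.Quotient.mk_surjective _ _).symm)
  · conv_lhs => rw [← hgξ]
    refine (((PrimeSpectrum.le_iff_specializes g _).1 ?_).map (X.fromSpecStalk z).continuous)
    show g.asIdeal ≤ (PrimeSpectrum.comap mk _).asIdeal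
    rw [hg]
    intro r hr
    show mk r ∈ (OrderDual.ofDual a).asIdeal
    rw [show mk r = 0 from Ideal.Quotient.eq_zero_iff_mem.2 hr]
    exact zero_mem _
  · refine le_of hδ ?_
    have := ((IsLocalRing.specializes_closedPoint (PrimeSpectrum.comap mk (OrderDual.ofDual a)))).map (X.fromSpecStalk z).continuous
    rwa [Scheme.fromSpecStalk_closedPoint] at this
  · obtain ⟨p, rfl⟩ := (Scheme.range_fromSpecStalk (X := X) (x := z)).ge h2
    rw [← hgξ, hemb.isInducing.specializes_iff] at h1
    replace h1 : g.asIdeal ≤ p.asIdeal := (PrimeSpectrum.le_iff_specializes g p).2 h1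
    have hp : p ∈ Set.range (PrimeSpectrum.comap mk) := by
      rw [show Set.range (PrimeSpectrum.comap mk) = PrimeSpectrum.zeroLocus (RingHom.ker mk : Set _) from
        range_comap_of_surjective _ _ Ideal.Quotient.mk_surjective]
      refine (PrimeSpectrum.mem_zeroLocus _ _).2 ?_
      rw [show RingHom.ker mk = g.asIdeal from Ideal.mk_ker.trans hg.symm]
      exact h1
    obtain ⟨q, hq⟩ := hp
    exact ⟨OrderDual.toDual q, congrArg _ hq⟩

end Groth.Agent.DimFunDim
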